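import Groth.Prelude.Def_EtBCD
import Groth.Agent.Sga4A.EtDescD
import Groth.Agent.EtpbcB.BCCrit

/-!
# Degree zero base change for étale sheaves of sets along universally closed morphisms

* `baseChange0Sh_pullSect` : the base change map `g^* f_* F ⟶ f'_* g'^* F` on unit sections.
* `mapStk_baseChange0Sh` : the base change map on germs.
* `isIso_baseChange0Sh_of_bcsurj` : if `f` is universally closed and sections over the geometric fibres
  of `f` extend to étale neighbourhoods (`BCsurj f`), the base change map is an isomorphism for every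
  sheaf of sets and every cartesian square.
-/

set_option autoImplicit false
set_option backward.isDefEq.respectTransparency.types false
universe u

open CategoryTheory CategoryTheory.Limits AlgebraicGeometry Opposite

namespace Groth.Agent.Topos.H572.BCSh

open EtDesc Groth.Agent.Sga4A.EtStalk
open Groth.Agent.EtpbcB.BCCrit (theta thetaNat theta_naturality theta_hom_left_fst)

section Base

variable {X Y X' Y' : Scheme.{u}} (f : X ⟶ Y) (g : Y' ⟶ Y) (f' : X' ⟶ Y') (g' : X' ⟶ X)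
  (w : g' ≫ f = f' ≫ g)

theorem unit_baseChange0Sh (F : Sh X) :
    (adjSh g).unit.app ((pushSh f).obj F) ≫
      (pushSh g).map (EtBC.baseChange0Sh f g f' g' w F) =
    ((pushSh f).map ((adjSh g').unit.app F) ≫ (pushCompSh f g').hom.app _ ≫
      (EtBC.pushCongrSh w).hom.app _ ≫ (pushCompSh g f').inv.app _) := by
  have := ((adjSh g).homEquiv _ _).apply_symm_apply
    ((pushSh f).map ((adjSh g').unit.app F) ≫ (pushCompSh f g').hom.app _ ≫
      (EtBC.pushCongrSh w).hom.app _ ≫ (pushCompSh g f').inv.app _)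
  rwa [Adjunction.homEquiv_unit] at this

/-- The base change map on unit sections. -/
theorem baseChange0Sh_pullSect (F : Sh X) {V : Y.Etale} (σ : sect F ((EtCoh.bc f).obj V)) :
    (EtBC.baseChange0Sh f g f' g' w F).hom.app (op ((EtCoh.bc g).obj V))
      (pullSect g ((pushSh f).obj F) (U := V) σ) =
    ((pullSh g').obj F).obj.map (theta f g f' g' w V).hom.op (pullSect g' F σ) := by
  have h2 := congr($(unit_baseChange0Sh f g f' g' w F).hom.app (op V) σ)
  refine h2.trans ?_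
  simp [theta, thetaNat, pushCompSh, EtBC.pushCongrSh]
  rfl

end Base

theorem germ_congr {X : Scheme.{u}} (F : Sh X) {L : Type u} [Field L] [IsSepClosed L]
    {ξ : Spec (.of L) ⟶ X} {U : X.Etale} {l l' : Spec (.of L) ⟶ U.left} (h : l = l')
    (hl : l ≫ U.hom = ξ) (hl' : l' ≫ U.hom = ξ) (s : sect F U) : germ F l hl s = germ F l' hl' s := by
  subst h; rfl

section Germ

variable {X Y X' Y' : Scheme.{u}} (f : X ⟶ Y) (g : Y' ⟶ Y) (f' : X' ⟶ Y') (g' : X' ⟶ X)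
  (w : g' ≫ f = f' ≫ g)

/-- The projection `V ×_{Y'} X' ⟶ U ×_Y X` for `V ⟶ U ×_Y Y'`. -/
noncomputable def kap {U : Y.Etale} {V : Y'.Etale} (k : V ⟶ (EtCoh.bc g).obj U) :
    ((EtCoh.bc f').obj V).left ⟶ ((EtCoh.bc f).obj U).left :=
  ((EtCoh.bc f').map k).left ≫ (theta f g f' g' w U).hom.left ≫ bcFst g' ((EtCoh.bc f).obj U)

theorem kap_fst {U : Y.Etale} {V : Y'.Etale} (k : V ⟶ (EtCoh.bc g).obj U) :
    kap f g f' g' w k ≫ bcFst f U = bcFst f' V ≫ k.left ≫ bcFst g U := by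
  have h1 := theta_hom_left_fst f g f' g' w U
  have h2 : kap f g f' g' w k ≫ bcFst f U = ((EtCoh.bc f').map k).left ≫
      (theta f g f' g' w U).hom.left ≫ bcFst g' ((EtCoh.bc f).obj U) ≫ bcFst f U := by
    rw [kap]; simp only [Category.assoc]
  rw [h2]
  refine (congrArg (((EtCoh.bc f').map k).left ≫ ·) h1).trans ?_
  exact bc_map_fst_assoc f' k _

theorem kap_hom {U : Y.Etale} {V : Y'.Etale} (k : V ⟶ (EtCoh.bc g).obj U) :
    kap f g f' g' w k ≫ ((EtCoh.bc f).obj U).hom = ((EtCoh.bc f').obj V).hom ≫ g' := by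
  have h1 : (theta f g f' g' w U).hom.left ≫ ((EtCoh.bc g').obj ((EtCoh.bc f).obj U)).hom =
    ((EtCoh.bc f').obj ((EtCoh.bc g).obj U)).hom := Over.w (theta f g f' g' w U).hom.hom
  rw [kap, Category.assoc, Category.assoc, bc_condition, reassoc_of% h1, bc_map_hom_assoc]

variable {Ω : Type u} [Field Ω] [IsSepClosed Ω]

/-- Germs of the image of a section under the base change map. -/
theorem germ_theta (F : Sh X) {U : Y.Etale} (s : sect F ((EtCoh.bc f).obj U)) {V : Y'.Etale}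
    (k : V ⟶ (EtCoh.bc g).obj U) (ζ : Spec (.of Ω) ⟶ ((EtCoh.bc f').obj V).left)
    (x' : Spec (.of Ω) ⟶ X') (hx : ζ ≫ ((EtCoh.bc f').obj V).hom = x')
    (ρ : Spec (.of Ω) ⟶ ((EtCoh.bc f).obj U).left) (hρ : ζ ≫ kap f g f' g' w k = ρ)
    (x : Spec (.of Ω) ⟶ X) (hx' : x' ≫ g' = x) (hρ2 : ρ ≫ ((EtCoh.bc f).obj U).hom = x) :
    germ ((pullSh g').obj F) ζ hx (((pullSh g').obj F).obj.map ((EtCoh.bc f').map k).op
      (((pullSh g').obj F).obj.map (theta f g f' g' w U).hom.op (pullSect g' F s))) =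
    pullStk' g' F x' x hx' (germ F ρ hρ2 s) := by
  subst hρ
  have h1 : (theta f g f' g' w U).hom.left ≫ ((EtCoh.bc g').obj ((EtCoh.bc f).obj U)).hom =
    ((EtCoh.bc f').obj ((EtCoh.bc g).obj U)).hom := Over.w (theta f g f' g' w U).hom.hom
  have h2 : (ζ ≫ ((EtCoh.bc f').map k).left) ≫ ((EtCoh.bc f').obj ((EtCoh.bc g).obj U)).hom = x' := by
    rw [Category.assoc, bc_map_hom, hx]
  have h3 : ((ζ ≫ ((EtCoh.bc f').map k).left) ≫ (theta f g f' g' w U).hom.left) ≫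
      ((EtCoh.bc g').obj ((EtCoh.bc f).obj U)).hom = x' := by
    rw [Category.assoc, h1, h2]
  have h4 : (((ζ ≫ ((EtCoh.bc f').map k).left) ≫ (theta f g f' g' w U).hom.left) ≫
      bcFst g' ((EtCoh.bc f).obj U)) ≫ ((EtCoh.bc f).obj U).hom = x := by
    rw [← hρ2, kap]; simp only [Category.assoc]
  rw [germ_res' _ ((EtCoh.bc f').map k) ζ hx _ h2 rfl,
    germ_res' _ (theta f g f' g' w U).hom _ h2 _ h3 rfl,
    germ_pullSect g' F s _ x' h3 x h4]
  congr 1

end Germ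

section Push

variable {X Y : Scheme.{u}} (f : X ⟶ Y) (F : Sh X)

/-- Two sections whose germs agree above the geometric point `l` of `U` agree over an étale neighbourhood. -/
theorem exists_shrink_eq [UniversallyClosed f] {Ω : Type u} [Field Ω] {U : Y.Etale}
    (s t : sect F ((EtCoh.bc f).obj U)) (l : Spec (.of Ω) ⟶ U.left)
    (h : ∀ z : ((EtCoh.bc f).obj U).left, bcFst f U z = l default → z ∈ agree F s t) :
    ∃ (U' : Y.Etale) (i : U' ⟶ U) (l' : Spec (.of Ω) ⟶ U'.left), l' ≫ i.left = l ∧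
      F.obj.map ((EtCoh.bc f).map i).op s = F.obj.map ((EtCoh.bc f).map i).op t := by
  have hcl : IsClosedMap (bcFst f U) := Scheme.Hom.isClosedMap (pullback.fst U.hom f)
  let D : U.left.Opens := ⟨((bcFst f U) '' (agree F s t)ᶜ)ᶜ,
    (hcl _ (isOpen_agree F s t).isClosed_compl).isOpen_compl⟩
  have hlD : l default ∈ D := by
    rintro ⟨w, hw, hwl⟩
    exact hw (h w hwl)
  obtain ⟨l', hl'⟩ := exists_lift_openEt U D l hlD
  refine ⟨openEt U D, openEtι U D, l', hl', ?_⟩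
  apply map_eq_of_range_subset
  intro z hz
  by_contra hz'
  exact (range_bc_openEtι f U D hz : bcFst f U z ∈ D) ⟨z, hz', rfl⟩

variable {Ω : Type u} [Field Ω] [IsSepClosed Ω]

/-- Germs of the direct image determine the germs above. -/
theorem germ_eq_of_germ_push_eq {ξ : Spec (.of Ω) ⟶ Y} {U : Y.Etale} (l : Spec (.of Ω) ⟶ U.left)
    (hl : l ≫ U.hom = ξ) (s t : sect F ((EtCoh.bc f).obj U))
    (h : germ ((pushSh f).obj F) (U := U) l hl s = germ ((pushSh f).obj F) (U := U) l hl t)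
    {Ω' : Type u} [Field Ω'] [IsSepClosed Ω'] (α : Spec (.of Ω') ⟶ Spec (.of Ω))
    (ζ : Spec (.of Ω') ⟶ ((EtCoh.bc f).obj U).left) (hζ : ζ ≫ bcFst f U = α ≫ l)
    (x : Spec (.of Ω') ⟶ X) (hx : ζ ≫ ((EtCoh.bc f).obj U).hom = x) :
    germ F ζ hx s = germ F ζ hx t := by
  obtain ⟨V, i, m, hm, e⟩ := (germ_eq_iff _ l hl _ _).1 h
  have hi : i.left ≫ U.hom = V.hom := Over.w i.hom
  have e1 : (α ≫ m) ≫ V.hom = x ≫ f := by
    rw [← hx, Category.assoc, Category.assoc, ← bc_condition, ← Category.assoc ζ, hζ, ← hi,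
      ← Category.assoc m, hm, Category.assoc]
  have e2 : bcPt f x (α ≫ m) e1 ≫ ((EtCoh.bc f).map i).left = ζ := by
    apply hom_ext_bc
    · rw [Category.assoc, bc_map_fst, bcPt_fst_assoc, Category.assoc, hm, hζ]
    · rw [Category.assoc, bc_map_hom, bcPt_hom, hx]
  rw [← germ_res' F ((EtCoh.bc f).map i) _ (bcPt_hom f x (α ≫ m) e1) ζ hx e2,
    ← germ_res' F ((EtCoh.bc f).map i) _ (bcPt_hom f x (α ≫ m) e1) ζ hx e2]
  exact congrArg _ e

/-- For a universally closed morphism, germs of the direct image are determined by the germs above. -/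
theorem germ_push_eq [UniversallyClosed f] {ξ : Spec (.of Ω) ⟶ Y} {U : Y.Etale}
    (l : Spec (.of Ω) ⟶ U.left) (hl : l ≫ U.hom = ξ) (s t : sect F ((EtCoh.bc f).obj U))
    (h : ∀ (Ω' : Type u) [Field Ω'] [IsSepClosed Ω'] (α : Spec (.of Ω') ⟶ Spec (.of Ω))
      (ζ : Spec (.of Ω') ⟶ ((EtCoh.bc f).obj U).left) (_ : ζ ≫ bcFst f U = α ≫ l)
      (x : Spec (.of Ω') ⟶ X) (hx : ζ ≫ ((EtCoh.bc f).obj U).hom = x),
      germ F ζ hx s = germ F ζ hx t) :
    germ ((pushSh f).obj F) (U := U) l hl s = germ ((pushSh f).obj F) (U := U) l hl t := by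
  obtain ⟨U', i, l', hl', e⟩ := exists_shrink_eq f F s t l (by
    intro z hz
    obtain ⟨Ω', _, _, α, ζ, rfl, hζ⟩ := exists_geom_over (bcFst f U) l z hz
    rw [mem_agree_iff]
    exact h Ω' α ζ hζ _ rfl)
  exact (germ_eq_iff _ l hl _ _).2 ⟨U', i, l', hl', e⟩

end Push

section Main

variable {X Y X' Y' : Scheme.{u}} (f : X ⟶ Y) (g : Y' ⟶ Y) (f' : X' ⟶ Y') (g' : X' ⟶ X)
variable {Ω : Type u} [Field Ω] [IsSepClosed Ω]

/-- The base change map on germs. -/
theorem mapStk_baseChange0Sh (w : g' ≫ f = f' ≫ g) (F : Sh X) (η : Spec (.of Ω) ⟶ Y')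
    (ξ : Spec (.of Ω) ⟶ Y) (hξ : η ≫ g = ξ) {U : Y.Etale} (l : Spec (.of Ω) ⟶ U.left)
    (hl : l ≫ U.hom = ξ) (s : sect F ((EtCoh.bc f).obj U)) :
    mapStk (EtBC.baseChange0Sh f g f' g' w F) η
      (pullStk' g ((pushSh f).obj F) η ξ hξ (germ ((pushSh f).obj F) (U := U) l hl s)) =
    germ ((pushSh f').obj ((pullSh g').obj F)) (U := (EtCoh.bc g).obj U)
      (bcPt g η l (hl.trans hξ.symm)) (bcPt_hom _ _ _ _)
      (((pullSh g').obj F).obj.map (theta f g f' g' w U).hom.op (pullSect g' F s)) := by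
  rw [pullStk'_germ, mapStk_germ]
  exact congrArg _ (baseChange0Sh_pullSect f g f' g' w F s)

theorem mapStk_injective [UniversallyClosed f] (h : IsPullback g' f' f g) (F : Sh X)
    (η : Spec (.of Ω) ⟶ Y') : Function.Injective (mapStk (EtBC.baseChange0Sh f g f' g' h.w F) η) := by
  intro σ τ hστ
  obtain ⟨ξ, hξ⟩ : ∃ ξ, η ≫ g = ξ := ⟨_, rfl⟩
  obtain ⟨σ, rfl⟩ := (pullStk' g ((pushSh f).obj F) η ξ hξ).surjective σ
  obtain ⟨τ, rfl⟩ := (pullStk' g ((pushSh f).obj F) η ξ hξ).surjective τ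
  obtain ⟨U, l, hl, s, t, rfl, rfl⟩ := exists_germ₂ ((pushSh f).obj F) σ τ
  congr 1
  have e0 := (mapStk_baseChange0Sh f g f' g' h.w F η ξ hξ l hl s).symm.trans
    (hστ.trans (mapStk_baseChange0Sh f g f' g' h.w F η ξ hξ l hl t))
  apply germ_push_eq
  intro Ω' _ _ α ζ hζ x hx
  have e1 : x ≫ f = (α ≫ η) ≫ g := by
    rw [← hx, Category.assoc, ← bc_condition, ← Category.assoc, hζ, Category.assoc, hl, ← hξ,
      Category.assoc]
  obtain ⟨x', hx1, hx2⟩ : ∃ x' : Spec (.of Ω') ⟶ X', x' ≫ g' = x ∧ x' ≫ f' = α ≫ η :=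
    ⟨h.lift _ _ e1, h.lift_fst _ _ e1, h.lift_snd _ _ e1⟩
  have e2 : (α ≫ bcPt g η l (hl.trans hξ.symm)) ≫ ((EtCoh.bc g).obj U).hom = x' ≫ f' := by
    rw [Category.assoc, bcPt_hom, hx2]
  have e3 : bcPt f' x' (α ≫ bcPt g η l (hl.trans hξ.symm)) e2 ≫
      kap f g f' g' h.w (𝟙 ((EtCoh.bc g).obj U)) = ζ := by
    apply hom_ext_bc
    · rw [Category.assoc, kap_fst, bcPt_fst_assoc]
      have : (𝟙 ((EtCoh.bc g).obj U) : (EtCoh.bc g).obj U ⟶ (EtCoh.bc g).obj U).left = 𝟙 _ := rfl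
      rw [this, Category.id_comp, Category.assoc, bcPt_fst, hζ]
    · rw [Category.assoc, kap_hom, bcPt_hom_assoc, hx1, hx]
  have e4 := germ_eq_of_germ_push_eq f' ((pullSh g').obj F) _ _ _ _ e0 α
    (bcPt f' x' (α ≫ bcPt g η l (hl.trans hξ.symm)) e2) (bcPt_fst _ _ _ _) x' (bcPt_hom _ _ _ _)
  have e5 : ∀ s : sect F ((EtCoh.bc f).obj U),
      germ ((pullSh g').obj F) (bcPt f' x' (α ≫ bcPt g η l (hl.trans hξ.symm)) e2)
        (bcPt_hom _ _ _ _)
        (((pullSh g').obj F).obj.map (theta f g f' g' h.w U).hom.op (pullSect g' F s)) =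
      pullStk' g' F x' x hx1 (germ F ζ hx s) := by
    intro s
    rw [← germ_theta f g f' g' h.w F s (𝟙 _) _ x' (bcPt_hom _ _ _ _) ζ e3 x hx1 hx]
    congr 1
    rw [CategoryTheory.Functor.map_id, op_id, CategoryTheory.Functor.map_id]
    rfl
  rw [e5, e5] at e4
  exact (pullStk' g' F x' x hx1).injective e4

theorem mapStk_surjective [UniversallyClosed f] (hf : BCsurj f) (h : IsPullback g' f' f g)
    (F : Sh X) (η : Spec (.of Ω) ⟶ Y') :
    Function.Surjective (mapStk (EtBC.baseChange0Sh f g f' g' h.w F) η) := by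
  intro τ
  have hf' : UniversallyClosed f' := MorphismProperty.of_isPullback h ‹_›
  obtain ⟨ξ, hξ⟩ : ∃ ξ, η ≫ g = ξ := ⟨_, rfl⟩
  obtain ⟨V, m, hm, t, rfl⟩ := exists_germ _ τ
  change sect ((pullSh g').obj F) ((EtCoh.bc f').obj V) at t
  have hpq : pullback.fst f ξ ≫ f = pullback.snd f ξ ≫ ξ := pullback.condition
  have e0 : pullback.fst f ξ ≫ f = (pullback.snd f ξ ≫ η) ≫ g := by
    rw [hpq, ← hξ, Category.assoc]
  obtain ⟨q, hq1, hq2⟩ : ∃ q : pullback f ξ ⟶ X', q ≫ g' = pullback.fst f ξ ∧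
      q ≫ f' = pullback.snd f ξ ≫ η :=
    ⟨h.lift _ _ e0, h.lift_fst _ _ e0, h.lift_snd _ _ e0⟩
  obtain ⟨κ, hκ1, hκ2⟩ : ∃ κ : pullback f ξ ⟶ ((EtCoh.bc f').obj V).left,
      κ ≫ bcFst f' V = pullback.snd f ξ ≫ m ∧ κ ≫ ((EtCoh.bc f').obj V).hom = q :=
    ⟨pullback.lift (pullback.snd f ξ ≫ m) q (by rw [hq2, Category.assoc, hm]),
      pullback.lift_fst _ _ _, pullback.lift_snd _ _ _⟩
  have hκ : κ ≫ ((EtCoh.bc f').obj V).hom ≫ g' = pullback.fst f ξ := by
    rw [reassoc_of% hκ2, hq1]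
  obtain ⟨U, l, hl, b, hb⟩ := hf F Ω ξ (((Fam.ofPullSect (g := g') t).pull κ).congr hκ)
  refine ⟨pullStk' g ((pushSh f).obj F) η ξ hξ (germ ((pushSh f).obj F) (U := U) l hl b), ?_⟩
  rw [mapStk_baseChange0Sh]
  obtain ⟨W, p1, p2, n, hn, hn1, hn2⟩ := exists_common_nhd
    (bcPt g η l (hl.trans hξ.symm)) (bcPt_hom g η l (hl.trans hξ.symm)) m hm
  rw [← germ_res' ((pushSh f').obj ((pullSh g').obj F)) p1 n hn _ (bcPt_hom _ _ _ _) hn1,
    ← germ_res' ((pushSh f').obj ((pullSh g').obj F)) p2 n hn m hm hn2]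
  apply germ_push_eq f' ((pullSh g').obj F)
  intro Ω' _ _ α ζ hζ x' hx'
  have e1 : x' ≫ f' = α ≫ η := by
    rw [← hx', Category.assoc, ← bc_condition, ← Category.assoc, hζ, Category.assoc, hn]
  have e2 : (x' ≫ g') ≫ f = α ≫ ξ := by
    rw [Category.assoc, h.w, ← Category.assoc, e1, ← hξ, Category.assoc]
  obtain ⟨ζ₀, hζ1, hζ2⟩ : ∃ ζ₀ : Spec (.of Ω') ⟶ pullback f ξ,
      ζ₀ ≫ pullback.fst f ξ = x' ≫ g' ∧ ζ₀ ≫ pullback.snd f ξ = α :=
    ⟨pullback.lift _ _ e2, pullback.lift_fst _ _ _, pullback.lift_snd _ _ _⟩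
  have e3 : ζ₀ ≫ κ = ζ ≫ ((EtCoh.bc f').map p2).left := by
    apply hom_ext_bc
    · rw [Category.assoc, hκ1, ← Category.assoc, hζ2, Category.assoc, bc_map_fst, ← Category.assoc,
        hζ, Category.assoc, hn2]
    · rw [Category.assoc, hκ2, Category.assoc, bc_map_hom, hx']
      apply h.hom_ext
      · rw [Category.assoc, hq1, hζ1]
      · rw [Category.assoc, hq2, ← Category.assoc, hζ2, e1]
  have e4 : (ζ₀ ≫ pullback.snd f ξ ≫ l) ≫ U.hom = (x' ≫ g') ≫ f := by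
    rw [e2, ← Category.assoc ζ₀, hζ2, Category.assoc, hl]
  have e5 : ζ ≫ kap f g f' g' h.w p1 = bcPt f (x' ≫ g') (ζ₀ ≫ pullback.snd f ξ ≫ l) e4 := by
    apply hom_ext_bc
    · rw [bcPt_fst, Category.assoc, kap_fst, ← Category.assoc, hζ, Category.assoc,
        ← Category.assoc n, hn1, bcPt_fst, ← Category.assoc ζ₀, hζ2]
    · rw [bcPt_hom, Category.assoc, kap_hom, ← Category.assoc, hx']
  have e6 := germ_theta f g f' g' h.w F b p1 ζ x' hx' _ e5 (x' ≫ g') rfl (bcPt_hom _ _ _ _)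
  have e7 := hb ζ₀ (x' ≫ g') hζ1 e4
  have hm' : (ζ ≫ ((EtCoh.bc f').map p2).left) ≫ ((EtCoh.bc f').obj V).hom = x' := by
    rw [Category.assoc, bc_map_hom, hx']
  have hm'' : (ζ ≫ ((EtCoh.bc f').map p2).left) ≫ ((EtCoh.bc f').obj V).hom ≫ g' = x' ≫ g' := by
    rw [← Category.assoc, hm']
  have e8 : (((Fam.ofPullSect (g := g') t).pull κ).congr hκ).val ζ₀ (x' ≫ g') hζ1 =
      (Fam.ofPullSect (g := g') t).val (ζ ≫ ((EtCoh.bc f').map p2).left) (x' ≫ g') hm'' := by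
    rw [Fam.congr_val]
    have k1 : (ζ₀ ≫ κ) ≫ ((EtCoh.bc f').obj V).hom ≫ g' = x' ≫ g' := by rw [e3, hm'']
    rw [Fam.pull_val _ _ _ _ _ k1]
    exact Fam.val_congr _ e3 _ _ _
  rw [e8, Fam.ofPullSect_val t _ x' (x' ≫ g') hm'' hm' rfl, Equiv.symm_apply_eq] at e7
  refine e6.trans (e7.symm.trans ?_)
  exact (germ_res' _ ((EtCoh.bc f').map p2) ζ hx' _ hm' rfl t).symm

/-- **Degree zero base change for sheaves of sets**: if `f` is universally closed and sections over the geometric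
fibres of `f` extend to étale neighbourhoods, the base change map is an isomorphism. -/
theorem isIso_baseChange0Sh_of_bcsurj [UniversallyClosed f] (hf : BCsurj f)
    (h : IsPullback g' f' f g) (F : Sh X) : IsIso (EtBC.baseChange0Sh f g f' g' h.w F) := by
  refine isIso_of_stk _ (fun x => ?_)
  obtain ⟨Ω, _, _, η, hη⟩ := exists_geomPoint Y' x
  exact ⟨Ω, inferInstance, inferInstance, η, hη, mapStk_injective f g f' g' h F η,
    mapStk_surjective f g f' g' hf h F η⟩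

end Main

end Groth.Agent.Topos.H572.BCSh
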